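import Cfsg.Agent.J4.GroupLemmas
set_option linter.all false

/-!
Groups generated by commuting involutions; products of subgroups.
-/
set_option autoImplicit false

namespace Cfsg.Agent.J4M.TwoGroup

open Subgroup

variable {G : Type*} [Group G]

theorem exists_sublist (l : List G) (hsq : ∀ q ∈ l, q * q = 1)
    (hcomm : ∀ a ∈ l, ∀ b ∈ l, a * b = b * a) :
    ∀ x ∈ closure {q | q ∈ l}, ∃ s : List G, s.Sublist l ∧ x = s.prod := by
  induction l with
  | nil =>
    intro x hx
    have : closure {q : G | q ∈ ([] : List G)} = ⊥ := by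
      rw [closure_eq_bot_iff]; intro q hq; simp at hq
    rw [this, mem_bot] at hx
    exact ⟨[], List.Sublist.slnil, by simp [hx]⟩
  | cons a l ih =>
    have ih' := ih (fun q hq => hsq q (List.mem_cons_of_mem _ hq))
      (fun q hq r hr => hcomm q (List.mem_cons_of_mem _ hq) r (List.mem_cons_of_mem _ hr))
    have ha : a * a = 1 := hsq a (List.mem_cons_self ..)
    have hac : ∀ y ∈ closure {q | q ∈ l}, a * y = y * a := by
      intro y hy
      have hle : closure {q | q ∈ l} ≤ centralizer {a} := by
        rw [closure_le]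
        intro q hq
        exact mem_centralizer_singleton_iff.mpr
          (hcomm a (List.mem_cons_self ..) q (List.mem_cons_of_mem _ hq)).symm
      exact (mem_centralizer_singleton_iff.mp (hle hy)).symm
    have key : ∀ x ∈ closure {q | q ∈ a :: l}, x ∈ closure {q | q ∈ l} ∨ a * x ∈ closure {q | q ∈ l} := by
      intro x hx
      induction hx using closure_induction with
      | mem x hx =>
        rcases List.mem_cons.mp (show x ∈ a :: l from hx) with rfl | hx
        · exact Or.inr (by rw [ha]; exact one_mem _)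
        · exact Or.inl (subset_closure hx)
      | one => exact Or.inl (one_mem _)
      | mul x y _ _ hx hy =>
        rcases hx with hx | hx <;> rcases hy with hy | hy
        · exact Or.inl (mul_mem hx hy)
        · refine Or.inr ?_
          rw [← mul_assoc, hac x hx, mul_assoc]; exact mul_mem hx hy
        · refine Or.inr ?_
          rw [← mul_assoc]; exact mul_mem hx hy
        · refine Or.inl ?_
          have h1 := mul_mem hx hy
          have h2 : a * x * (a * y) = x * y := by
            have h3 : a * x * a = a * (a * x) := (hac _ hx).symm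
            rw [← mul_assoc, h3, ← mul_assoc, ha, one_mul]
          rwa [h2] at h1
      | inv x _ hx =>
        rcases hx with hx | hx
        · exact Or.inl (inv_mem hx)
        · refine Or.inr ?_
          have h3 : a⁻¹ = a := inv_eq_of_mul_eq_one_left ha
          have h1 := inv_mem hx
          rw [mul_inv_rev, h3] at h1
          have h4 := hac _ h1
          have h5 : a * x⁻¹ = x⁻¹ * a := by
            calc a * x⁻¹ = a * (x⁻¹ * a) * a := by
                  rw [mul_assoc, mul_assoc x⁻¹, ha, mul_one]
              _ = x⁻¹ * a * a * a := by rw [h4]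
              _ = x⁻¹ * a := by rw [mul_assoc (x⁻¹ * a), ha, mul_one]
          rw [h5]; exact h1
    intro x hx
    rcases key x hx with h | h
    · obtain ⟨s, hs, e⟩ := ih' x h
      exact ⟨s, hs.cons a, e⟩
    · obtain ⟨s, hs, e⟩ := ih' _ h
      refine ⟨a :: s, hs.cons_cons a, ?_⟩
      rw [List.prod_cons, ← e, ← mul_assoc, ha, one_mul]

theorem card_closure_le (l : List G) (hsq : ∀ q ∈ l, q * q = 1)
    (hcomm : ∀ a ∈ l, ∀ b ∈ l, a * b = b * a) :
    Finite (closure {q | q ∈ l}) ∧ Nat.card (closure {q | q ∈ l}) ≤ 2 ^ l.length := by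
  classical
  have h := exists_sublist l hsq hcomm
  have hsub : ((closure {q | q ∈ l} : Subgroup G) : Set G) ⊆
      ((l.sublists.map List.prod).toFinset : Set G) := by
    intro x hx
    obtain ⟨s, hs, rfl⟩ := h x hx
    simp only [List.coe_toFinset, List.mem_map, List.mem_sublists, Set.mem_ofPred_eq]
    exact ⟨s, hs, rfl⟩
  have hfin : ((closure {q | q ∈ l} : Subgroup G) : Set G).Finite :=
    (Finset.finite_toSet _).subset hsub
  refine ⟨hfin, ?_⟩
  calc Nat.card (closure {q | q ∈ l}) = Set.ncard ((closure {q | q ∈ l} : Subgroup G) : Set G) := rfl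
    _ ≤ Set.ncard ((l.sublists.map List.prod).toFinset : Set G) :=
        Set.ncard_le_ncard hsub (Finset.finite_toSet _)
    _ = (l.sublists.map List.prod).toFinset.card := Set.ncard_coe_finset _
    _ ≤ (l.sublists.map List.prod).length := List.toFinset_card_le _
    _ = 2 ^ l.length := by rw [List.length_map, List.length_sublists]

theorem card_sup_le [Finite G] (Q M : Subgroup G) (hn : M ≤ normalizer (Q : Set G)) :
    Nat.card (Q ⊔ M : Subgroup G) ≤ Nat.card Q * Nat.card M := by
  have h : ∀ x : (Q ⊔ M : Subgroup G), ∃ y : Q × M, (x : G) = y.1 * y.2 := by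
    intro x
    have hx : (x : G) ∈ ((Q ⊔ M : Subgroup G) : Set G) := x.2
    rw [Subgroup.coe_mul_of_right_le_normalizer_left Q M hn] at hx
    obtain ⟨q, hq, m, hm, e⟩ := Set.mem_mul.mp hx
    exact ⟨(⟨q, hq⟩, ⟨m, hm⟩), e.symm⟩
  choose f hf using h
  rw [← Nat.card_prod]
  apply Nat.card_le_card_of_injective f
  intro x y hxy
  apply Subtype.ext
  rw [hf x, hf y, hxy]

theorem card_mul_le_card [Finite G] (A B K : Subgroup G) (hA : A ≤ K) (hB : B ≤ K)
    (hAB : A ⊓ B = ⊥) : Nat.card A * Nat.card B ≤ Nat.card K := by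
  rw [← Nat.card_prod]
  apply Nat.card_le_card_of_injective
    (fun x : A × B => (⟨(x.1 : G) * x.2, K.mul_mem (hA x.1.2) (hB x.2.2)⟩ : K))
  rintro ⟨⟨a, ha⟩, ⟨b, hb⟩⟩ ⟨⟨a', ha'⟩, ⟨b', hb'⟩⟩ h
  have h' : a * b = a' * b' := congrArg Subtype.val h
  have h2 : a'⁻¹ * a = b' * b⁻¹ := by
    rw [eq_mul_inv_iff_mul_eq, mul_assoc, h', inv_mul_cancel_left]
  have h3 : a'⁻¹ * a ∈ A ⊓ B :=
    ⟨A.mul_mem (A.inv_mem ha') ha, by rw [h2]; exact B.mul_mem hb' (B.inv_mem hb)⟩
  rw [hAB, mem_bot] at h3
  have h4 : a = a' := (inv_mul_eq_one.mp h3).symm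
  subst h4
  have h5 : b = b' := mul_left_cancel h'
  subst h5
  rfl

/-- an element conjugating the generators into the subgroup normalizes it -/
theorem mem_normalizer_of_conj [Finite G] {S : Set G} {g : G}
    (h : ∀ s ∈ S, g * s * g⁻¹ ∈ closure S) : g ∈ normalizer ((closure S : Subgroup G) : Set G) := by
  apply Subgroup.mem_normalizer_fintype
  intro n hn
  have hle : closure S ≤ (closure S).comap (MulAut.conj g).toMonoidHom := by
    rw [closure_le]
    intro q hq
    exact h q hq
  exact hle hn

theorem mem_normalizer_map [Finite G] (f : ℕ → G) (n : ℕ) {g : G}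
    (h : ∀ i < n, g * f i * g⁻¹ ∈ closure {q | q ∈ (List.range n).map f}) :
    g ∈ normalizer ((closure {q | q ∈ (List.range n).map f} : Subgroup G) : Set G) := by
  apply mem_normalizer_of_conj
  intro s hs
  obtain ⟨i, hi, rfl⟩ := List.mem_map.mp (show s ∈ (List.range n).map f from hs)
  exact h i (List.mem_range.mp hi)

theorem card_closure_map_le (f : ℕ → G) (n : ℕ) (hsq : ∀ i < n, f i * f i = 1)
    (hcomm : ∀ i < n, ∀ j < n, f i * f j = f j * f i) :
    Nat.card (closure {q | q ∈ (List.range n).map f}) ≤ 2 ^ n := by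
  have h := (card_closure_le ((List.range n).map f) ?_ ?_).2
  · rwa [List.length_map, List.length_range] at h
  · intro q hq
    obtain ⟨i, hi, rfl⟩ := List.mem_map.mp hq
    exact hsq i (List.mem_range.mp hi)
  · intro a ha b hb
    obtain ⟨i, hi, rfl⟩ := List.mem_map.mp ha
    obtain ⟨j, hj, rfl⟩ := List.mem_map.mp hb
    exact hcomm i (List.mem_range.mp hi) j (List.mem_range.mp hj)

theorem mem_closure_map (f : ℕ → G) {n i : ℕ} (hi : i < n) :
    f i ∈ closure {q | q ∈ (List.range n).map f} :=
  subset_closure (List.mem_map.mpr ⟨i, List.mem_range.mpr hi, rfl⟩)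

theorem closure_map_le (f : ℕ → G) {n : ℕ} {K : Subgroup G} (h : ∀ i < n, f i ∈ K) :
    closure {q | q ∈ (List.range n).map f} ≤ K := by
  rw [closure_le]
  intro q hq
  obtain ⟨i, hi, rfl⟩ := List.mem_map.mp (show q ∈ (List.range n).map f from hq)
  exact h i (List.mem_range.mp hi)

theorem closure_triple_le {K : Subgroup G} {a b c : G} (ha : a ∈ K) (hb : b ∈ K) (hc : c ∈ K) :
    closure {a, b, c} ≤ K := by
  rw [closure_le]
  rintro d (rfl | rfl | rfl)
  · exact ha
  · exact hb
  · exact hc

theorem closure_triple_eq {Q M : Subgroup G} {x y c : G} (hM : M = closure {x, y}) (hc : c ∈ Q)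
    (hQ : Q ≤ closure {x, y, c}) : closure {x, y, c} = Q ⊔ M := by
  apply le_antisymm
  · refine closure_triple_le ?_ ?_ (mem_sup_left hc)
    · exact mem_sup_right (by rw [hM]; exact subset_closure (by simp))
    · exact mem_sup_right (by rw [hM]; exact subset_closure (by simp))
  · refine sup_le hQ ?_
    rw [hM]
    exact closure_mono (by rintro a (rfl | rfl) <;> simp)

end Cfsg.Agent.J4M.TwoGroup
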