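import Cfsg.Agent.J4M.Order
import Cfsg.Agent.J4.Simple
import Cfsg.Prelude.Def_Sporadic
set_option linter.all false

/-!
The group `R` of 112 × 112 matrices is simple of the order of J4.
-/
set_option autoImplicit false

namespace Cfsg.Agent.J4M.SimpleR

open Cfsg.Agent.Lib Cfsg.Agent.Lib.F2MatGroup
open Cfsg.Agent.J4 Cfsg.Agent.J4.Rep112 Cfsg.Agent.J4.Simple
open Cfsg.Agent.J4M.Base Cfsg.Agent.J4M.Order

/-- the generator x -/
def xR : R := ⟨xg, by rw [R_eq]; exact Subgroup.subset_closure (by simp)⟩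
/-- the generator y -/
def yR : R := ⟨yg, by rw [R_eq]; exact Subgroup.subset_closure (by simp)⟩
/-- the generator t -/
def tR : R := ⟨tg, by rw [R_eq]; exact Subgroup.subset_closure (by simp)⟩

/-- the generators -/
noncomputable def gensR : List R := [xR, yR, yR⁻¹, tR]

theorem codes_gensR : List.Forall₂ (fun g A => Codes 112 (R.subtype g) A) gensR codes := by
  unfold gensR codes
  exact .cons cx (.cons cy (.cons cy' (.cons ct .nil)))

theorem closure_gens {G : Type*} [Group G] {K : Subgroup G} {a b c : K}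
    (h : K = Subgroup.closure {(a : G), (b : G), (c : G)}) :
    Subgroup.closure {a, b, c} = (⊤ : Subgroup K) := by
  have h2 : (Subgroup.closure {a, b, c}).map K.subtype = K := by
    rw [MonoidHom.map_closure, Set.image_insert_eq, Set.image_pair]
    exact h.symm
  rw [eq_top_iff]
  intro z _
  have hz : (z : G) ∈ (Subgroup.closure {a, b, c}).map K.subtype := by
    rw [h2]; exact z.2
  obtain ⟨w, hw, hwz⟩ := hz
  have : w = z := Subtype.ext hwz
  rwa [← this]

theorem closure_R : Subgroup.closure {xR, yR, tR} = (⊤ : Subgroup R) := closure_gens R_eq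

theorem center_eq_bot : Subgroup.center R = ⊥ := by
  refine Cfsg.Agent.Lib.F2Center.center_eq_bot (n := 112) R.subtype (Subgroup.subtype_injective _)
    (gs := gensR) (L := codes) codes_gensR
    (v := v) (F := 1) (T := Tinv) (ps := [(RepData.X, B1), (RepData.Y, B2)]) (st := st) ?_ ?_ ?_ ?_ ?_
  · intro p hp
    simp only [List.mem_cons, List.not_mem_nil, or_false] at hp
    rcases hp with rfl | rfl
    · simp [codes]
    · simp [codes]
  · decide +kernel
  · decide +kernel
  · decide +kernel
  · decide +kernel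

theorem orderOf_of {G : Type*} [Group G] {K : Subgroup G} {g : K}
    (h1 : (g : G) ^ 37 = 1) (h2 : (g : G) ≠ 1) : orderOf g = 37 := by
  have : Fact (Nat.Prime 37) := ⟨by norm_num⟩
  apply orderOf_eq_prime
  · exact Subtype.ext h1
  · intro h; exact h2 (by rw [h]; rfl)

theorem word_y : ∃ w : R, orderOf w = 37 ∧ orderOf (w * yR) = 37 :=
  ⟨xR * tR * yR, orderOf_of pya nya, orderOf_of pyb nyb⟩

theorem word_t : ∃ w : R, orderOf w = 37 ∧ orderOf (w * tR) = 37 :=
  ⟨tR * yR * xR * yR * tR * yR⁻¹, orderOf_of pta nta, orderOf_of ptb ntb⟩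

theorem word_x : ∃ w : R, orderOf w = 37 ∧ orderOf (w * xR) = 37 :=
  ⟨tR * yR⁻¹ * xR * yR⁻¹ * tR * yR, orderOf_of pxa nxa, orderOf_of pxb nxb⟩

theorem isSimple_R : IsSimpleGroup R := by
  refine Cfsg.Agent.Lib.SimpleByPrime.isSimpleGroup_of_prime_list 37 (by norm_num)
    [(2, 21), (3, 3), (5, 1), (7, 1), (11, 3), (23, 1), (29, 1), (31, 1), (43, 1)] ?_ ?_ ?_ ?_
    {xR, yR, tR} closure_R ?_ center_eq_bot
  · rw [card_R]; norm_num
  · intro q hq
    simp only [List.mem_cons, List.not_mem_nil, or_false] at hq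
    rcases hq with rfl | rfl | rfl | rfl | rfl | rfl | rfl | rfl | rfl <;> norm_num
  · decide
  · decide +kernel
  · rintro s (rfl | rfl | rfl)
    · exact word_x
    · exact word_y
    · exact word_t

/-- `R` is a simple group of the order of J4 -/
theorem isJ4_R : Cfsg.IsJ4 R := ⟨isSimple_R, card_R⟩

end Cfsg.Agent.J4M.SimpleR
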